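/-! Certificates for the central extensions of `Cfsg.Spor.Fi23`. -/

set_option autoImplicit false

namespace CfsgLib.Coset.Fi23.Schur

/-- Conjugators from the transposition to the generators. -/
def cW : List (List Nat) :=
  [
  [1, 2, 3, 8, 4, 5, 3, 4, 2, 3, 8, 6, 7, 5, 6, 4, 5, 3, 4, 2, 3, 8, 0, 1, 2, 3, 4, 5, 6, 7],
  [2, 3, 8, 4, 5, 3, 4, 2, 3, 8, 6, 7, 5, 6, 4, 5, 3, 4, 2, 3, 8, 1, 2, 3, 4, 5, 6, 7],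
  [3, 8, 4, 5, 3, 4, 1, 2, 3, 8, 6, 7, 5, 6, 4, 5, 3, 4, 2, 3, 8, 1, 2, 3, 4, 5, 6, 7],
  [8, 4, 5, 2, 3, 4, 1, 2, 3, 8, 6, 7, 5, 6, 4, 5, 3, 4, 2, 3, 8, 1, 2, 3, 4, 5, 6, 7],
  [3, 8, 5, 2, 3, 4, 1, 2, 3, 8, 6, 7, 5, 6, 4, 5, 3, 4, 2, 3, 8, 1, 2, 3, 4, 5, 6, 7],
  [4, 3, 8, 2, 3, 4, 1, 2, 3, 8, 6, 7, 5, 6, 4, 5, 3, 4, 2, 3, 8, 1, 2, 3, 4, 5, 6, 7],
  [5, 4, 3, 8, 2, 3, 4, 1, 2, 3, 8, 7, 5, 6, 4, 5, 3, 4, 2, 3, 8, 1, 2, 3, 4, 5, 6, 7],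
  [6, 5, 4, 3, 8, 2, 3, 4, 1, 2, 3, 8, 5, 6, 4, 5, 3, 4, 2, 3, 8, 1, 2, 3, 4, 5, 6, 7],
  [3, 4, 5, 2, 3, 4, 1, 2, 3, 8, 6, 7, 5, 6, 4, 5, 3, 4, 2, 3, 8, 1, 2, 3, 4, 5, 6, 7],
  [8, 3, 4, 2, 3, 8, 5, 6, 4, 5, 3, 4, 2, 3, 8, 9, 7, 6, 5, 4, 3, 8, 2, 3, 4, 5, 6, 7]]

/-- Seven commuting transpositions with product one. -/
def seven : List (List Nat × Nat) :=
  [([5, 4, 3, 8, 2, 3, 4, 1, 2, 3, 8, 5, 4, 3, 2, 1], 0), ([1, 2, 3, 8, 4, 3, 2, 1], 0), ([3, 8, 4, 3], 2), ([], 0), ([], 2), ([], 4), ([], 8)]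

/-- A conjugator inverting the Coxeter element. -/
def kC : List Nat :=
  [8, 4, 5, 4, 0, 1, 2, 0, 1, 0]

/-- The transpositions of the triangle on one arm. -/
def triA : List (List Nat × Nat) :=
  [([], 4), ([], 5), ([3, 8, 9, 2, 3, 8, 4, 3, 2], 1)]

/-- The transpositions of the triangle on another arm. -/
def triB : List (List Nat × Nat) :=
  [([], 8), ([], 9), ([3, 4, 2, 3, 8, 5, 4, 3, 2], 1)]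

/-- Transpositions carrying one triangle to the other. -/
def movers : List (List Nat × Nat) :=
  [([6, 5, 3, 4, 2, 3, 8, 9, 8, 6, 4, 5, 3, 4, 2, 3, 8, 7, 6, 5, 4, 1, 2], 3), ([3, 4, 0, 1, 2, 3, 8, 9, 6, 5, 4, 3, 8, 7, 5, 6, 4, 5, 2, 3, 4, 1, 2, 3, 8, 9, 6, 5, 2, 3, 4, 1, 2, 3, 8, 7, 6, 5, 4, 0, 1, 2], 3), ([0, 1, 2, 3, 8, 9, 5, 4, 3, 8, 5, 6, 4, 5, 2, 3, 4, 1, 2, 3, 8, 9, 6, 4, 5, 3, 4, 1, 2, 3, 8, 7, 6, 5, 4, 0, 1, 2], 3)]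

/-- Translations as products of two transpositions. -/
def trans : List (Nat × List Nat × Nat) :=
  [(2, [3, 8, 9, 4, 3, 8, 5, 4, 3, 2], 1), (3, [8, 9, 4, 2, 3, 8, 5, 4, 3, 2], 1), (4, [5, 3, 8, 9, 2, 3, 8, 4, 3, 2], 1), (5, [4, 3, 8, 9, 2, 3, 8, 4, 3, 2], 1), (9, [8, 3, 4, 2, 3, 8, 5, 4, 3, 2], 1)]

end CfsgLib.Coset.Fi23.Schur
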