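/-! Rewriting moves in the Coxeter group of `Cfsg.Spor.Fi23`. -/

set_option autoImplicit false

namespace CfsgLib.Coset.Fi23.Schur

/-- Rewriting moves. -/
def mvCox0 : List (Nat × Nat) :=
  [
  (9, 1), (8, 1), (6, 2), (7, 1), (6, 2), (7, 2), (8, 2), (9, 2), (10, 1), (5, 2), (6, 2), (7, 2),
  (8, 2), (9, 1), (4, 2), (5, 2), (6, 2), (7, 2), (8, 1), (1, 3), (3, 2), (4, 3), (6, 2), (7, 2),
  (8, 2), (9, 2), (10, 1), (5, 2), (6, 2), (7, 2), (8, 2), (9, 1), (4, 2), (5, 2), (6, 2), (7, 2),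
  (8, 1), (4, 2), (5, 2), (6, 2), (7, 1), (6, 1), (5, 1), (4, 1), (3, 1), (2, 1), (1, 1), (0, 1)]

/-- Rewriting moves. -/
def mvCox : List (Nat × Nat) :=
  mvCox0

end CfsgLib.Coset.Fi23.Schur
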