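import Cfsg.Agent.Coset.Fi23.Schur.Hats
import Cfsg.Agent.Coset.Fi23.Schur.CoxMoves
import Cfsg.Agent.Coset.Fi23.Schur.CubeMoves
import Cfsg.Agent.Coset.Fi23.Schur.SpiderMoves
import Cfsg.Agent.Multiplier.Reduce

/-!
The Schur multiplier of `Cfsg.Spor.Fi23` is trivial. The spider relator lifts exactly: its value is
the quotient of a central translation on one arm by that on another, and these are conjugate by
three transpositions commuting with the first.
-/

set_option autoImplicit false
set_option maxRecDepth 100000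
set_option Elab.async false

namespace CfsgLib.Coset.Fi23.Schur

open CfsgLib.Coset Fi23

/-- A translation. -/
def trW (i : Nat) : List Nat :=
  (trans.getD i (0, [], 0)).1 :: tpW (trans.getD i (0, [], 0)).2

/-- A hat of a triangle, as a word. -/
def triW (T : List (List Nat × Nat)) (i : Nat) : List Nat := tpW (T.getD i ([], 0))

/-- The central translation of a triangle. -/
def rW (T : List (List Nat × Nat)) : List Nat :=
  triW T 0 ++ triW T 1 ++ triW T 2 ++ triW T 1 ++ triW T 0 ++ triW T 2 ++ triW T 0 ++ triW T 1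

/-- The third power of a word. -/
def cube (w : List Nat) : List Nat := w ++ (w ++ w)

/-- The value of the spider relator in translations. -/
def spiderTgt : List Nat :=
  cube (trW 0) ++ cube (trW 1) ++ rW triA ++ (rW triB).reverse ++ cube (trW 4).reverse

theorem spider_reduces :
    reduces mvSpider (powWord (spider, 10) ++ spiderTgt.reverse) = true := by decide +kernel

theorem cube_reduces :
    reduces mvCube (cube (rW triA) ++ (cube (trW 2) ++ cube (trW 3).reverse).reverse) = true := by
  decide +kernel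

theorem cox_reduces :
    reduces mvCox (kC ++ coxeter ++ kC.reverse ++ coxeter) = true := by decide +kernel

theorem trans_ok : allBelow 3 5 (fun i => cond (Nat.ble (Nat.add (trans.getD i (0, [], 0)).1 1) 10)
    (cond (Nat.ble (Nat.add (trans.getD i (0, [], 0)).2.2 1) 10)
      (sameW ((trans.getD i (0, [], 0)).1 :: tpW (trans.getD i (0, [], 0)).2 ++
          [(trans.getD i (0, [], 0)).1])
        (tpW (trans.getD i (0, [], 0)).2 ++ ((trans.getD i (0, [], 0)).1 ::
          tpW (trans.getD i (0, [], 0)).2))) false) false) = true := by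
  decide +kernel

theorem movers_ok : allList (fun q => cond (Nat.ble (Nat.add q.2 1) 10)
    (sameW (tpW q ++ rW triA) (rW triA ++ tpW q)) false) movers = true := by decide +kernel

/-- The word of the product of the movers. -/
def moveW : List Nat := movers.flatMap tpW

theorem moveW_ok : allBelow 2 3 (fun i => cond (Nat.ble (Nat.add (triA.getD i ([], 0)).2 1) 10)
    (cond (Nat.ble (Nat.add (triB.getD i ([], 0)).2 1) 10)
      (sameW (moveW ++ triW triA i ++ moveW.reverse) (triW triB i)) false) false) = true := by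
  decide +kernel

theorem seven_ok : allList (fun p => cond (Nat.ble (Nat.add p.2 1) 10)
      (allList (fun q => sameW (tpW p ++ tpW q) (tpW q ++ tpW p)) seven) false) seven = true ∧
    sameW (seven.flatMap tpW) [] = true ∧ seven.length = 7 := by
  refine ⟨?_, ?_, ?_⟩
  · decide +kernel
  · decide +kernel
  · decide +kernel

theorem mem_rels {w : List Nat} (hw : w ∈ rels) :
    (∃ p ∈ pairs, w = pairWord p) ∨ w = powWord (spider, 10) ∨ w = powWord (coxeter, 9) := by
  rcases List.mem_append.mp (rels_covered w hw) with h | h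
  · obtain ⟨p, hp, rfl⟩ := List.mem_map.mp h
    exact Or.inl ⟨p, hp, rfl⟩
  · simp only [List.mem_cons, List.not_mem_nil, or_false] at h
    exact Or.inr h

theorem pairs_ok : allList (fun p => cond (Nat.ble (Nat.add p.1 1) 10)
    (cond (Nat.ble (Nat.add p.2.1 1) 10)
      (cond (Nat.beq p.2.2 1) (Nat.beq p.1 p.2.1)
        (cond (Nat.beq p.2.2 2) (cond (adjB p.1 p.2.1) false (cond (Nat.beq p.1 p.2.1) false true))
          (cond (Nat.beq p.2.2 3) (adjB p.1 p.2.1) false))) false) false) pairs = true := by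
  decide +kernel

section

variable {Γ : Type} [Group Γ] {σ : Γ →* Cfsg.Spor.Fi23} {T : Γ} {X : List Γ}

theorem cox_pairs (hC : Cox X) : ∀ p ∈ pairs, ev X (pairWord p) = 1 := by
  rintro ⟨a, b, m⟩ hp
  obtain ⟨h1, h2⟩ := cond_false_eq_true.mp (allList_iff.mp pairs_ok _ hp)
  obtain ⟨h2, h3⟩ := cond_false_eq_true.mp h2
  have ha : a < 10 := Nat.ble_eq.mp h1
  have hb : b < 10 := Nat.ble_eq.mp h2
  cases c1 : Nat.beq m 1
  · rw [c1, cond_false] at h3
    cases c2 : Nat.beq m 2
    · rw [c2, cond_false] at h3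
      obtain ⟨c3, hadj⟩ := cond_false_eq_true.mp h3
      obtain rfl := Nat.eq_of_beq_eq_true c3
      show ev X [a, b, a, b, a, b] = 1
      simp only [ev_cons, ev_nil, mul_one]
      calc fl X a * (fl X b * (fl X a * (fl X b * (fl X a * fl X b))))
          = fl X a * fl X b * fl X a * (fl X b * fl X a * fl X b) := by group
        _ = fl X b * fl X a * fl X b * (fl X b * fl X a * fl X b) := by rw [hC.braid a b hadj]
        _ = fl X b * fl X a * (fl X b * fl X b) * fl X a * fl X b := by group
        _ = fl X b * (fl X a * fl X a) * fl X b := by rw [hC.sq b]; group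
        _ = 1 := by rw [hC.sq a, mul_one, hC.sq b]
    · obtain rfl := Nat.eq_of_beq_eq_true c2
      rw [c2, cond_true] at h3
      cases hadj : adjB a b
      · rw [hadj, cond_false] at h3
        have hne : a ≠ b := fun e => by
          rw [e, Nat.beq_refl, cond_true] at h3
          exact Bool.false_ne_true h3
        show ev X [a, b, a, b] = 1
        simp only [ev_cons, ev_nil, mul_one]
        calc fl X a * (fl X b * (fl X a * fl X b))
            = fl X a * (fl X b * (fl X b * fl X a)) := by rw [hC.comm a b ha hb hne hadj]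
          _ = fl X a * ((fl X b * fl X b) * fl X a) := by group
          _ = 1 := by rw [hC.sq b, one_mul, hC.sq a]
      · rw [hadj, cond_true] at h3
        exact absurd h3 Bool.false_ne_true
  · obtain rfl := Nat.eq_of_beq_eq_true c1
    rw [c1, cond_true] at h3
    have e : a = b := Nat.eq_of_beq_eq_true h3
    subst e
    show ev X [a, a] = 1
    simp only [ev_cons, ev_nil, mul_one]
    exact hC.sq a

theorem ev_cube (w : List Nat) : ev X (cube w) = ev X w * (ev X w * ev X w) := by
  simp [cube, ev_append]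

theorem cube_tr (hs : Cfsg.IsStemExtension σ) (hT : σ T = t) (hT2 : T * T = 1)
    (hX : Frame σ T X) {i : Nat} (hi : i < 5) : ev X (cube (trW i)) = 1 := by
  have hC := hX.cox hs hT hT2
  obtain ⟨h1, h2⟩ := cond_false_eq_true.mp (of_allBelow trans_ok i hi)
  obtain ⟨h2, h3⟩ := cond_false_eq_true.mp h2
  rw [ev_cube, trW]
  generalize trans.getD i (0, [], 0) = c at h1 h2 h3
  have hl : c.1 < 10 := Nat.ble_eq.mp h1
  have hY : Hat T (ev X (tpW c.2)) := hX.hat_tp hC (Nat.ble_eq.mp h2)
  have e := sameW_eq h3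
  simp only [ev_append, ev_cons, ev_nil, mul_one] at e
  have hb : fl X c.1 * ev X (tpW c.2) * fl X c.1 =
      ev X (tpW c.2) * fl X c.1 * ev X (tpW c.2) := by
    refine (hX.hat _ hl).braid hs hT hT2 hY ?_
    simp only [map_mul, hX.img _ hl, hX.map_ev]
    simpa [mul_assoc] using e
  rw [ev_cons]
  calc fl X c.1 * ev X (tpW c.2) *
        (fl X c.1 * ev X (tpW c.2) * (fl X c.1 * ev X (tpW c.2)))
      = fl X c.1 * ev X (tpW c.2) * fl X c.1 *
          (ev X (tpW c.2) * fl X c.1 * ev X (tpW c.2)) := by group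
    _ = ev X (tpW c.2) * fl X c.1 * ev X (tpW c.2) *
          (ev X (tpW c.2) * fl X c.1 * ev X (tpW c.2)) := by rw [hb]
    _ = ev X (tpW c.2) * fl X c.1 * (ev X (tpW c.2) * ev X (tpW c.2)) * fl X c.1 *
          ev X (tpW c.2) := by group
    _ = ev X (tpW c.2) * (fl X c.1 * fl X c.1) * ev X (tpW c.2) := by rw [hY.sq hT2]; group
    _ = 1 := by rw [hC.sq c.1, mul_one, hY.sq hT2]

/-- The spider relator holds in a frame. -/
theorem spider_one (hs : Cfsg.IsStemExtension σ) (hT : σ T = t) (hT2 : T * T = 1)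
    (hX : Frame σ T X) : ev X (powWord (spider, 10)) = 1 := by
  have hC := hX.cox hs hT hT2
  have h1 := ev_of_reduces hC spider_reduces
  rw [ev_append, ev_rev_of_sq hC, mul_inv_eq_one] at h1
  set R := ev X (rW triA) with hRdef
  have hR3 : R * (R * R) = 1 := by
    have h := ev_of_reduces hC cube_reduces
    rw [ev_append, ev_rev_of_sq hC, mul_inv_eq_one, ev_cube, ← hRdef, ev_append,
      cube_tr hs hT hT2 hX (i := 2) (by decide), one_mul] at h
    rw [h]
    have h3 := cube_tr hs hT hT2 hX (i := 3) (by decide)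
    rw [ev_cube] at h3
    rw [ev_cube, ev_rev_of_sq hC]
    calc (ev X (trW 3))⁻¹ * ((ev X (trW 3))⁻¹ * (ev X (trW 3))⁻¹)
        = (ev X (trW 3) * (ev X (trW 3) * ev X (trW 3)))⁻¹ := by group
      _ = 1 := by rw [h3, inv_one]
  -- the movers commute with the translation
  have hfix : ∀ q ∈ movers, Commute (ev X (tpW q)) R := by
    intro q hq
    obtain ⟨a, b⟩ := cond_false_eq_true.mp (allList_iff.mp movers_ok q hq)
    have hQ : Hat T (ev X (tpW q)) := hX.hat_tp hC (Nat.ble_eq.mp a)
    set Q := ev X (tpW q) with hQdef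
    have e : σ Q * σ R = σ R * σ Q := by
      rw [hQdef, hRdef, hX.map_ev, hX.map_ev, ← ev_append, ← ev_append, sameW_eq b]
    obtain ⟨z, hz, ez⟩ := exists_central_factor e
    have hzc : ∀ y : Γ, Commute y z := fun y => Subgroup.mem_center_iff.mp (hs.2.1 hz) y
    have q2 := hQ.sq hT2
    have eR : Q * R * Q = z * R := by rw [ez, mul_assoc (z * R), q2, mul_one]
    have hz2 : z * z = 1 := by
      have h2 : R = z * z * R := by
        calc R = (Q * Q) * R * (Q * Q) := by rw [q2]; group
          _ = Q * (Q * R * Q) * Q := by group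
          _ = Q * (z * R) * Q := by rw [eR]
          _ = z * (Q * R * Q) := by rw [← mul_assoc, (hzc Q).eq]; group
          _ = z * z * R := by rw [eR, mul_assoc]
      exact mul_eq_right.mp h2.symm
    have hz3 : z * (z * z) = 1 := by
      calc z * (z * z) = z * (z * z) * (R * (R * R)) := by rw [hR3, mul_one]
        _ = z * R * (z * R * (z * R)) := by
            have key : ∀ x y : Γ, x * (z * y) = z * (x * y) := fun x y => by
              rw [← mul_assoc, (hzc x).eq, mul_assoc]
            simp only [mul_assoc, key]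
        _ = (Q * R * Q) * ((Q * R * Q) * (Q * R * Q)) := by rw [eR]
        _ = Q * (R * (Q * Q) * R * (Q * Q) * R) * Q := by group
        _ = 1 := by rw [q2, mul_one, mul_one, mul_assoc R R, hR3, mul_one, q2]
    rw [hz2, mul_one] at hz3
    rw [hz3, one_mul] at ez
    exact ez
  have hk : Commute (ev X moveW) R := by
    have : ∀ l : List (List Nat × Nat), (∀ q ∈ l, Commute (ev X (tpW q)) R) →
        Commute (ev X (l.flatMap tpW)) R := by
      intro l
      induction l with
      | nil => intro _; simp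
      | cons q l ih =>
        intro h
        rw [List.flatMap_cons, ev_append]
        exact (h q (by simp)).mul_left (ih fun x hx => h x (by simp [hx]))
    exact this movers hfix
  have htri : ∀ i < 3, ev X moveW * ev X (triW triA i) * (ev X moveW)⁻¹ = ev X (triW triB i) := by
    intro i hi
    obtain ⟨a, b⟩ := cond_false_eq_true.mp (of_allBelow moveW_ok i hi)
    obtain ⟨b, c⟩ := cond_false_eq_true.mp b
    refine ((hX.hat_tp hC (Nat.ble_eq.mp a)).conj _).unique hs hT
      (hX.hat_tp hC (Nat.ble_eq.mp b)) ?_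
    rw [map_mul, map_mul, map_inv, hX.map_ev, hX.map_ev, ← ev_Lg_rev, ← ev_append, ← ev_append]
    exact (sameW_eq c).trans (hX.map_ev _).symm
  have hRB : ev X (rW triB) = R := by
    calc ev X (rW triB) = ev X moveW * R * (ev X moveW)⁻¹ := by
          rw [hRdef]
          simp only [rW, ev_append, ← htri 0 (by decide), ← htri 1 (by decide), ← htri 2 (by decide)]
          group
      _ = R := by rw [hk.eq, mul_inv_cancel_right]
  rw [h1, spiderTgt]
  have c4 : ev X (cube (trW 4).reverse) = 1 := by
    have h4 := cube_tr hs hT hT2 hX (i := 4) (by decide)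
    rw [ev_cube] at h4
    rw [ev_cube, ev_rev_of_sq hC]
    calc (ev X (trW 4))⁻¹ * ((ev X (trW 4))⁻¹ * (ev X (trW 4))⁻¹)
        = (ev X (trW 4) * (ev X (trW 4) * ev X (trW 4)))⁻¹ := by group
      _ = 1 := by rw [h4, inv_one]
  rw [ev_append, ev_append, ev_append, ev_append, cube_tr hs hT hT2 hX (i := 0) (by decide),
    cube_tr hs hT hT2 hX (i := 1) (by decide), one_mul, one_mul, ev_rev_of_sq hC, hRB, c4, mul_one,
    ← hRdef, mul_inv_cancel]

/-- The value of the Coxeter relator has order at most two. -/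
theorem coxeter_sq (hs : Cfsg.IsStemExtension σ) (hT : σ T = t) (hT2 : T * T = 1)
    (hX : Frame σ T X) :
    ev X (powWord (coxeter, 9)) ∈ σ.ker ∧
      ev X (powWord (coxeter, 9)) * ev X (powWord (coxeter, 9)) = 1 := by
  have hC := hX.cox hs hT hT2
  set v := ev X (powWord (coxeter, 9)) with hv
  have hvk : v ∈ σ.ker := by
    rw [MonoidHom.mem_ker, hv, hX.map_ev]
    exact ev_rels _ (by decide +kernel)
  refine ⟨hvk, ?_⟩
  have h := ev_of_reduces hC cox_reduces
  rw [ev_append, ev_append, ev_append, ev_rev_of_sq hC] at h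
  set u := ev X coxeter with hu
  set k := ev X kC
  have ev9 : v = u ^ 9 := by rw [hv, powWord, ← pow_ev, hu]
  have e : k * u * k⁻¹ = u⁻¹ := eq_inv_of_mul_eq_one_left h
  have hfix : k * v * k⁻¹ = v := by
    rw [Subgroup.mem_center_iff.mp (hs.2.1 hvk) k, mul_inv_cancel_right]
  have : v = v⁻¹ := by
    conv_lhs => rw [← hfix]
    rw [ev9, ← conj_pow, e, inv_pow]
  nth_rewrite 1 [this]
  exact inv_mul_cancel v

theorem prod_sq {s : Γ} (hsc : ∀ y : Γ, y * s = s * y) : ∀ l : List Γ,
    (∀ x ∈ l, x * x = s) → (∀ x ∈ l, ∀ y ∈ l, x * y = y * x) →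
      l.prod * l.prod = s ^ l.length
  | [], _, _ => by simp
  | x :: l, h, hc => by
    have hxp : Commute x l.prod :=
      Commute.list_prod_right l x fun y hy => hc x (by simp) y (by simp [hy])
    have ih := prod_sq hsc l (fun y hy => h y (by simp [hy]))
      (fun y hy z hz => hc y (by simp [hy]) z (by simp [hz]))
    rw [List.prod_cons, List.length_cons, pow_succ']
    calc x * l.prod * (x * l.prod) = x * (l.prod * x) * l.prod := by group
      _ = (x * x) * (l.prod * l.prod) := by rw [← hxp.eq]; group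
      _ = s * s ^ l.length := by rw [h x (by simp), ih]

/-- Some lift of the transposition is an involution. -/
theorem exists_T (hs : Cfsg.IsStemExtension σ) {p : ℕ} (hp : p.Prime)
    (hcard : Nat.card σ.ker = p) : ∃ T : Γ, σ T = t ∧ T * T = 1 := by
  obtain ⟨T, hT⟩ := hs.1 t
  set s := T * T with hsdef
  have hsk : s ∈ σ.ker := by
    rw [MonoidHom.mem_ker, hsdef, map_mul, hT, ← pow_two, ← orderOf_t, pow_orderOf_eq_one]
  have hsc : ∀ y : Γ, y * s = s * y := Subgroup.mem_center_iff.mp (hs.2.1 hsk)
  have hpow : ∀ z ∈ σ.ker, z ^ p = 1 := fun z hz => by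
    have h : (⟨z, hz⟩ : σ.ker) ^ Nat.card σ.ker = 1 := pow_card_eq_one'
    rw [hcard] at h
    exact congrArg Subtype.val h
  rcases hp.eq_two_or_odd with rfl | hodd
  · refine ⟨T, hT, ?_⟩
    obtain ⟨X, hX⟩ := exists_frame hs hT
    choose u hu using fun w : List Nat => hs.1 (ev Lg w)
    let Y : List Nat × Nat → Γ := fun p => u p.1 * fl X p.2 * (u p.1)⁻¹
    obtain ⟨h7, hprod, hlen⟩ := seven_ok
    have hlt : ∀ q ∈ seven, q.2 < 10 := fun q hq =>
      Nat.ble_eq.mp (cond_false_eq_true.mp (allList_iff.mp h7 q hq)).1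
    have hY : ∀ q ∈ seven, Hat T (Y q) ∧ σ (Y q) = ev Lg (tpW q) := fun q hq => by
      refine ⟨(hX.hat q.2 (hlt q hq)).conj _, ?_⟩
      simp only [Y, map_mul, map_inv, hu, hX.img q.2 (hlt q hq), tpW, ev_append, ev_Lg_rev,
        ev_cons, ev_nil, mul_one]
    set l := seven.map Y with hl
    have hsq : ∀ x ∈ l, x * x = s := fun x hx => by
      obtain ⟨q, hq, rfl⟩ := List.mem_map.mp hx
      exact (hY q hq).1.sq_eq hsc
    have hcm : ∀ x ∈ l, ∀ y ∈ l, x * y = y * x := fun x hx y hy => by
      obtain ⟨a, ha, rfl⟩ := List.mem_map.mp hx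
      obtain ⟨b, hb, rfl⟩ := List.mem_map.mp hy
      refine (hY b hb).1.comm hs hT ?_
      rw [(hY a ha).2, (hY b hb).2, ← ev_append, ← ev_append]
      exact sameW_eq (allList_iff.mp (cond_false_eq_true.mp (allList_iff.mp h7 a ha)).2 b hb)
    have hP : σ l.prod = 1 := by
      have aux : ∀ m : List (List Nat × Nat), (∀ q ∈ m, q ∈ seven) →
          σ (m.map Y).prod = ev Lg (m.flatMap tpW) := by
        intro m
        induction m with
        | nil => intro _; simp
        | cons q m ih =>
          intro h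
          rw [List.map_cons, List.prod_cons, map_mul, (hY q (h q (by simp))).2,
            ih (fun x hx => h x (by simp [hx])), List.flatMap_cons, ev_append]
      rw [hl, aux seven (fun q hq => hq), sameW_eq hprod, ev_nil]
    have h := prod_sq hsc l hsq hcm
    rw [hl, List.length_map, hlen, ← hl] at h
    have h2 := hpow _ (MonoidHom.mem_ker.mpr hP)
    rw [pow_two, h] at h2
    have h3 := hpow s hsk
    calc s = s * (s ^ 2) ^ 3 := by rw [h3, one_pow, mul_one]
      _ = 1 := by rw [← pow_mul, ← pow_succ', h2]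
  · set w := s ^ ((p + 1) / 2) with hw
    have hwk : w ∈ σ.ker := pow_mem hsk _
    have hw2 : w * w = s := by
      rw [hw, ← pow_add, show (p + 1) / 2 + (p + 1) / 2 = p + 1 by omega, pow_succ, hpow s hsk,
        one_mul]
    refine ⟨T * w⁻¹, by rw [map_mul, map_inv, MonoidHom.mem_ker.mp hwk, inv_one, mul_one, hT], ?_⟩
    have hc : Commute T w⁻¹ :=
      (show Commute T w from Subgroup.mem_center_iff.mp (hs.2.1 hwk) T).inv_right
    calc T * w⁻¹ * (T * w⁻¹) = T * (w⁻¹ * T) * w⁻¹ := by group
      _ = (T * T) * (w * w)⁻¹ := by rw [← hc.eq]; group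
      _ = 1 := by rw [hw2, ← hsdef, mul_inv_cancel]

theorem coxeter_len : (powWord (coxeter, 9)).length = 63 ∧
    checkLetters 10 [powWord (coxeter, 9)] = true := by constructor <;> decide +kernel

/-- Lifts satisfying all relators. -/
theorem exists_lifts (hs : Cfsg.IsStemExtension σ) {p : ℕ} (hp : p.Prime)
    (hcard : Nat.card σ.ker = p) :
    ∃ (T : Γ) (X : List Γ), Frame σ T X ∧ ∀ w ∈ rels, ev X w = 1 := by
  obtain ⟨T, hT, hT2⟩ := exists_T hs hp hcard
  obtain ⟨X, hX⟩ := exists_frame hs hT
  obtain ⟨hvk, hv2⟩ := coxeter_sq hs hT hT2 hX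
  set v := ev X (powWord (coxeter, 9)) with hv
  have hvc : ∀ y : Γ, y * v = v * y := Subgroup.mem_center_iff.mp (hs.2.1 hvk)
  have hT' : σ (T * v) = t := by rw [map_mul, MonoidHom.mem_ker.mp hvk, mul_one, hT]
  have hT2' : T * v * (T * v) = 1 := by
    calc T * v * (T * v) = T * (v * T) * v := by group
      _ = (T * T) * (v * v) := by rw [← hvc T]; group
      _ = 1 := by rw [hT2, hv2, one_mul]
  have hv' : ∀ y : Γ, v * y = y * v := fun y => (hvc y).symm
  let X' : List Γ := X.map (· * v)
  have hX' : Frame σ (T * v) X' := by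
    refine ⟨by simp [X', hX.len], fun l hl => ?_, fun l hl => ?_⟩
    all_goals rw [fl, List.getD_eq_getElem _ _ (by simpa [X', hX.len] using hl)]
    all_goals simp only [X', List.getElem_map]
    all_goals rw [← List.getD_eq_getElem X 1 (by simpa [hX.len] using hl)]
    · obtain ⟨u, hu⟩ := hX.hat l hl
      refine ⟨u, ?_⟩
      show fl X l * v = _
      rw [hu, mul_assoc (u * T), hvc u⁻¹]
      group
    · show σ (fl X l * v) = _
      rw [map_mul, MonoidHom.mem_ker.mp hvk, mul_one]
      exact hX.img l hl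
  have hev : ∀ w : List Nat, (∀ l ∈ w, l < 10) → ev X' w = ev X w * v ^ w.length := by
    intro w
    induction w with
    | nil => intro _; simp
    | cons l w ih =>
      intro h
      have hl : l < X.length := hX.len ▸ h l (by simp)
      rw [ev_cons, ev_cons, ih fun x hx => h x (by simp [hx]), List.length_cons, pow_succ']
      have e : fl X' l = fl X l * v := by
        rw [fl, fl, List.getD_eq_getElem _ _ (by simpa [X'] using hl),
          List.getD_eq_getElem _ _ hl]
        simp [X']
      rw [e]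
      calc fl X l * v * (ev X w * v ^ w.length) = fl X l * (v * ev X w) * v ^ w.length := by group
        _ = fl X l * ev X w * (v * v ^ w.length) := by rw [hv']; group
  refine ⟨T * v, X', hX', fun w hw => ?_⟩
  rcases mem_rels hw with ⟨p, hp, rfl⟩ | rfl | rfl
  · exact cox_pairs (hX'.cox hs hT' hT2') p hp
  · exact spider_one hs hT' hT2' hX'
  · rw [hev _ (letters_lt coxeter_len.2 _ (List.mem_singleton_self _)), coxeter_len.1, ← hv,
      show (63 : ℕ) = 2 * 31 + 1 from rfl, pow_succ, pow_mul, pow_two, hv2, one_pow, one_mul]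
    exact hv2

end

theorem noStem (p : ℕ) (hp : p.Prime) : CfsgLib.Multiplier.NoStem Cfsg.Spor.Fi23 p := by
  intro Γ _ _ σ hσ hcard
  obtain ⟨T, X, hX, hr⟩ := exists_lifts hσ hp hcard
  have hr' : ∀ w ∈ pres.rels, ev X w = 1 := rels_eq ▸ hr
  let s : Cfsg.Spor.Fi23 →* Γ := pres.hom pres_ok hr'
  have hsec : ∀ x, σ (s x) = x := by
    intro x
    have hx : x ∈ Subgroup.closure {y | y ∈ Lg} := closure_Lg ▸ Subgroup.mem_top x
    induction hx using Subgroup.closure_induction with
    | mem y hy =>
      obtain ⟨l, hl, rfl⟩ := List.getElem_of_mem hy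
      obtain ⟨g, hg⟩ := hix l (len_Lg ▸ hl)
      subst hg
      have e1 : s (fl Lg (ix g)) = fl X (ix g) := pres.hom_fl pres_ok hr' g
      rw [← List.getD_eq_getElem Lg 1 hl]
      show σ (s (fl Lg (ix g))) = fl Lg (ix g)
      rw [e1]
      exact hX.img _ (len_Lg ▸ hl)
    | one => simp
    | mul a b _ _ ha hb => rw [map_mul, map_mul, ha, hb]
    | inv a _ ha => rw [map_inv, map_inv, ha]
  have hb : σ.ker = ⊥ := by
    refine CfsgLib.Multiplier.ker_eq_bot_of_complement σ hσ s.range ?_ ?_
    · rw [eq_bot_iff]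
      rintro y ⟨⟨x, rfl⟩, hy⟩
      rw [Subgroup.mem_bot]
      have : x = 1 := (hsec x).symm.trans (MonoidHom.mem_ker.mp hy)
      rw [this, map_one]
    · refine eq_top_iff.mpr fun y _ => ?_
      have hy : (s (σ y))⁻¹ * y ∈ σ.ker := by
        rw [MonoidHom.mem_ker, map_mul, map_inv, hsec, inv_mul_cancel]
      rw [show y = s (σ y) * ((s (σ y))⁻¹ * y) by group]
      exact Subgroup.mul_mem_sup ⟨σ y, rfl⟩ hy
  rw [hb, Subgroup.card_bot] at hcard
  exact hp.ne_one hcard.symm

theorem multiplier : Cfsg.HasCyclicSchurMultiplier Cfsg.Spor.Fi23 1 := by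
  have := card_le.1
  exact CfsgLib.Multiplier.hasTrivial_of_noStem _ noStem

end CfsgLib.Coset.Fi23.Schur
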